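import Mathlib

/-!
# Alternating sections: smaller degrees, explicit elements
-/

set_option autoImplicit false

namespace Cfsg.Agent.H190

open Equiv

/-- `A_m ≤ A_r` for `m ≤ r` -/
theorem exists_alt_emb {m r : ℕ} (h : m ≤ r) :
    ∃ f : ↥(alternatingGroup (Fin m)) →* ↥(alternatingGroup (Fin r)), Function.Injective f := by
  let e := Perm.viaEmbeddingHom (Fin.castLEEmb h)
  have hs : ∀ g : Perm (Fin m), Perm.sign (e g) = Perm.sign g := fun g => by
    show Perm.sign (Perm.viaEmbedding g (Fin.castLEEmb h)) = _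
    unfold Perm.viaEmbedding
    convert Perm.sign_extendDomain g (Equiv.ofInjective (Fin.castLEEmb h).1 (Fin.castLEEmb h).2)
  refine ⟨(e.comp (alternatingGroup (Fin m)).subtype).codRestrict _ (fun g => ?_), ?_⟩
  · rw [Perm.mem_alternatingGroup]
    show Perm.sign (e g) = 1
    rw [hs]
    exact Perm.mem_alternatingGroup.1 g.2
  · intro a b hab
    have h1 : e a = e b := congrArg Subtype.val hab
    exact Subtype.ext (Perm.viaEmbeddingHom_injective _ h1)

/-- a section `A_r` gives a section `A_m`, `m ≤ r` -/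
theorem section_mono {H : Type*} [Group H] {m r : ℕ} (h : m ≤ r) (φ : H →* ↥(alternatingGroup (Fin r)))
    (hφ : Function.Surjective φ) :
    ∃ (H' : Subgroup H) (φ' : ↥H' →* ↥(alternatingGroup (Fin m))), Function.Surjective φ' := by
  obtain ⟨f, hf⟩ := exists_alt_emb h
  let e : ↥(alternatingGroup (Fin m)) ≃* ↥f.range := MonoidHom.ofInjective hf
  let ψ : ↥(f.range.comap φ) →* ↥f.range := (φ.comp (f.range.comap φ).subtype).codRestrict _ (fun h => h.2)
  refine ⟨f.range.comap φ, e.symm.toMonoidHom.comp ψ, ?_⟩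
  intro a
  obtain ⟨h, hh⟩ := hφ (f a)
  refine ⟨⟨h, ?_⟩, ?_⟩
  · show φ h ∈ f.range
    rw [hh]; exact ⟨a, rfl⟩
  · show e.symm _ = a
    rw [MulEquiv.symm_apply_eq]
    exact Subtype.ext hh

/-- the table of a permutation -/
def ofTab {n : ℕ} (a b : Fin n → Fin n) (h : ∀ x, b (a x) = x) (h' : ∀ x, a (b x) = x) : Perm (Fin n) :=
  ⟨a, b, h, h'⟩

/-- `x ↦ x + 1` on `5` points of `7` -/
def x7 : Perm (Fin 7) := ofTab ![1, 2, 3, 4, 0, 5, 6] ![4, 0, 1, 2, 3, 5, 6] (by decide) (by decide)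
def y7 : Perm (Fin 7) := ofTab ![0, 2, 4, 1, 3, 6, 5] ![0, 3, 1, 4, 2, 6, 5] (by decide) (by decide)

theorem x7_mem : x7 ∈ alternatingGroup (Fin 7) := by
  rw [Perm.mem_alternatingGroup]; decide +kernel
theorem y7_mem : y7 ∈ alternatingGroup (Fin 7) := by
  rw [Perm.mem_alternatingGroup]; decide +kernel
theorem rel7 : y7 * x7 * y7⁻¹ = x7 ^ 2 := by decide +kernel

theorem x7_order : orderOf x7 = 5 := by
  haveI : Fact (Nat.Prime 5) := ⟨by norm_num⟩
  exact orderOf_eq_prime (by decide +kernel) (by decide +kernel)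

def x11 : Perm (Fin 11) := ofTab (fun i => i + 1) (fun i => i + 10) (by decide) (by decide)
def y11 : Perm (Fin 11) := ofTab (fun i => 3 * i) (fun i => 4 * i) (by decide) (by decide)

theorem x11_mem : x11 ∈ alternatingGroup (Fin 11) := by
  rw [Perm.mem_alternatingGroup]; decide +kernel
theorem y11_mem : y11 ∈ alternatingGroup (Fin 11) := by
  rw [Perm.mem_alternatingGroup]; decide +kernel
theorem rel11 : y11 * x11 * y11⁻¹ = x11 ^ 3 := by decide +kernel
theorem x11_order : orderOf x11 = 11 := by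
  haveI : Fact (Nat.Prime 11) := ⟨by norm_num⟩
  exact orderOf_eq_prime (by decide +kernel) (by decide +kernel)

/-- two commuting cycles of lengths 5 and 7 -/
def x12 : Perm (Fin 12) := ofTab ![1, 2, 3, 4, 0, 5, 6, 7, 8, 9, 10, 11] ![4, 0, 1, 2, 3, 5, 6, 7, 8, 9, 10, 11]
  (by decide) (by decide)
def z12 : Perm (Fin 12) := ofTab ![0, 1, 2, 3, 4, 6, 7, 8, 9, 10, 11, 5] ![0, 1, 2, 3, 4, 11, 5, 6, 7, 8, 9, 10]
  (by decide) (by decide)
/-- `x ↦ 2x` on the first five points, `x ↦ 3x` on the last seven -/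
def y12 : Perm (Fin 12) := ofTab ![0, 2, 4, 1, 3, 5, 8, 11, 7, 10, 6, 9] ![0, 3, 1, 4, 2, 5, 10, 8, 6, 11, 9, 7]
  (by decide) (by decide)

theorem x12_mem : x12 ∈ alternatingGroup (Fin 12) := by
  rw [Perm.mem_alternatingGroup]; decide +kernel
theorem z12_mem : z12 ∈ alternatingGroup (Fin 12) := by
  rw [Perm.mem_alternatingGroup]; decide +kernel
theorem y12_mem : y12 ∈ alternatingGroup (Fin 12) := by
  rw [Perm.mem_alternatingGroup]; decide +kernel
theorem rel12x : y12 * x12 * y12⁻¹ = x12 ^ 2 := by decide +kernel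
theorem rel12z : y12 * z12 * y12⁻¹ = z12 ^ 3 := by decide +kernel
theorem comm12 : x12 * z12 = z12 * x12 := by decide +kernel
theorem x12_order : orderOf x12 = 5 := by
  haveI : Fact (Nat.Prime 5) := ⟨by norm_num⟩
  exact orderOf_eq_prime (by decide +kernel) (by decide +kernel)
theorem z12_order : orderOf z12 = 7 := by
  haveI : Fact (Nat.Prime 7) := ⟨by norm_num⟩
  exact orderOf_eq_prime (by decide +kernel) (by decide +kernel)

def x13 : Perm (Fin 13) := ofTab ![1, 2, 3, 4, 5, 6, 7, 8, 9, 10, 0, 11, 12] ![10, 0, 1, 2, 3, 4, 5, 6, 7, 8, 9, 11, 12]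
  (by decide) (by decide)
/-- `x ↦ 2x` on the first eleven points and a transposition -/
def y13 : Perm (Fin 13) := ofTab ![0, 2, 4, 6, 8, 10, 1, 3, 5, 7, 9, 12, 11] ![0, 6, 1, 7, 2, 8, 3, 9, 4, 10, 5, 12, 11]
  (by decide) (by decide)

theorem x13_mem : x13 ∈ alternatingGroup (Fin 13) := by
  rw [Perm.mem_alternatingGroup]; decide +kernel
theorem y13_mem : y13 ∈ alternatingGroup (Fin 13) := by
  rw [Perm.mem_alternatingGroup]; decide +kernel
theorem rel13 : y13 * x13 * y13⁻¹ = x13 ^ 2 := by decide +kernel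
theorem x13_order : orderOf x13 = 11 := by
  haveI : Fact (Nat.Prime 11) := ⟨by norm_num⟩
  exact orderOf_eq_prime (by decide +kernel) (by decide +kernel)

end Cfsg.Agent.H190
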