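import Cfsg.Agent.H190.Act
import Cfsg.Agent.H190.Alt

/-!
# Sections of Chevalley groups: going up to a field extension, down to a smaller alternating group
-/

set_option autoImplicit false

namespace Cfsg.Agent.H190

open Cfsg.Lie Cfsg.Agent.ChevalleyStructure.Elts

universe u

theorem start (D : ChevalleyDatum) {F K' : Type u} [Field F] [Field K'] (f : F →+* K') {r m : ℕ} (hm : m ≤ r)
    (H : Subgroup ↥(D.group F)) (K : Subgroup ↥H) [K.Normal]
    (h : Nonempty (↥H ⧸ K ≃* ↥(alternatingGroup (Fin r)))) :
    ∃ (H' : Subgroup ↥H) (ι : ↥H' →* ↥(D.group K')) (φ : ↥H' →* ↥(alternatingGroup (Fin m))),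
      Function.Injective ι ∧ Function.Surjective φ := by
  obtain ⟨e⟩ := h
  obtain ⟨H', φ, hφ⟩ := section_mono hm (e.toMonoidHom.comp (QuotientGroup.mk' K))
    (e.surjective.comp (QuotientGroup.mk'_surjective K))
  refine ⟨H', ((groupMap D f).comp H.subtype).comp H'.subtype, φ, ?_, hφ⟩
  exact ((groupMap_injective D f).comp H.subtype_injective).comp H'.subtype_injective

/-- a finite field of characteristic `p` containing `F` whose multiplicative order is divisible by `m` -/
theorem field_ext' (F : Type u) [Field F] [Fintype F] (p : ℕ) [Fact p.Prime] [CharP F p] {m : ℕ} (hm : ¬ p ∣ m) :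
    ∃ (K : Type u) (_ : Field K) (_ : Fintype K) (_ : F →+* K), m ∣ Fintype.card K - 1 :=
  exists_field_ext F p hm

end Cfsg.Agent.H190
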