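import Mathlib

/-!
# Local subgroups of sections (abstract part)

`frattini_section`: if `φ : H → A` is onto and `Q ≤ A` is a `ℓ`-group then some `ℓ`-subgroup `S ≤ H` with `φ(S) = Q`
has `N_A(Q) ≤ φ(N_H(S))`.

`exists_conj_le`: a `ℓ`-subgroup is conjugate into every subgroup of index prime to `ℓ`.

`TorusData T N`: `T` abelian, normal in `N`, and `N` controls fusion (of subgroups, elementwise) in `T`.

`one_prime`, `two_primes`: the action of normalisers of `ℓ`-elements in a section of `X` is visible in `N` acting on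
`T`, if `ℓ ∤ |X : T|`.
-/

set_option autoImplicit false

namespace Cfsg.Agent.H190

open scoped Pointwise

section Frattini

variable {H A : Type*} [Group H] [Group A]

theorem frattini_section [Finite H] (φ : H →* A) (hφ : Function.Surjective φ) (ℓ : ℕ) [hl : Fact ℓ.Prime]
    (Q : Subgroup A) (hQ : IsPGroup ℓ Q) :
    ∃ S : Subgroup H, IsPGroup ℓ S ∧ S.map φ = Q ∧
      ∀ a : A, (∀ q : A, q ∈ Q ↔ a * q * a⁻¹ ∈ Q) →
        ∃ h : H, φ h = a ∧ ∀ s : H, s ∈ S ↔ h * s * h⁻¹ ∈ S := by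
  classical
  set M : Subgroup H := Q.comap φ with hM
  obtain ⟨P⟩ : Nonempty (Sylow ℓ M) := inferInstance
  set S : Subgroup H := (P : Subgroup M).map M.subtype with hS
  have hSp : IsPGroup ℓ S := P.isPGroup'.map _
  -- `φ(S) = Q`
  have hmap : S.map φ = Q := by
    apply le_antisymm
    · rintro _ ⟨_, ⟨m, _, rfl⟩, rfl⟩
      exact m.2
    · -- the image of the Sylow subgroup in the ℓ-group Q has index prime to ℓ
      let ψ : M →* Q := (φ.comp M.subtype).codRestrict Q (fun m => m.2)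
      have hψ : Function.Surjective ψ := by
        rintro ⟨q, hq⟩
        obtain ⟨h, rfl⟩ := hφ q
        exact ⟨⟨h, hq⟩, rfl⟩
      have hfinQ : Finite Q := Finite.of_surjective ψ hψ
      have hidx : ((P : Subgroup M).map ψ).index ∣ (P : Subgroup M).index :=
        Subgroup.index_map_dvd _ hψ
      have hnot : ¬ ℓ ∣ ((P : Subgroup M).map ψ).index := fun h => P.not_dvd_index (h.trans hidx)
      have htop : (P : Subgroup M).map ψ = ⊤ := by
        rw [← Subgroup.index_eq_one]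
        obtain ⟨k, hk⟩ := IsPGroup.iff_card.1 hQ
        have h1 : ((P : Subgroup M).map ψ).index ∣ ℓ ^ k := hk ▸ Subgroup.index_dvd_card _
        obtain ⟨j, _, hj⟩ := (Nat.dvd_prime_pow hl.out).1 h1
        rcases Nat.eq_zero_or_pos j with h0 | h0
        · rw [hj, h0, pow_zero]
        · exact absurd (hj ▸ dvd_pow_self ℓ h0.ne') hnot
      intro q hq
      have h2 : (⟨q, hq⟩ : Q) ∈ (P : Subgroup M).map ψ := htop ▸ Subgroup.mem_top _
      obtain ⟨m, hm, hme⟩ := h2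
      exact ⟨m, ⟨m, hm, rfl⟩, congrArg Subtype.val hme⟩
  refine ⟨S, hSp, hmap, ?_⟩
  intro a ha
  obtain ⟨h, rfl⟩ := hφ a
  -- conjugation by `h` is an automorphism of `M`
  have hhM : ∀ m : H, m ∈ M ↔ h * m * h⁻¹ ∈ M := by
    intro m
    rw [hM, Subgroup.mem_comap, Subgroup.mem_comap, map_mul, map_mul, map_inv]
    exact ha _
  let α : MulAut M :=
    { toFun := fun m => ⟨h * m * h⁻¹, (hhM m).1 m.2⟩
      invFun := fun m => ⟨h⁻¹ * m * h, (hhM _).2 (by
        have : h * (h⁻¹ * (m : H) * h) * h⁻¹ = m := by group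
        rw [this]; exact m.2)⟩
      left_inv := fun m => Subtype.ext (by show h⁻¹ * (h * (m : H) * h⁻¹) * h = m; group)
      right_inv := fun m => Subtype.ext (by show h * (h⁻¹ * (m : H) * h) * h⁻¹ = m; group)
      map_mul' := fun m m' => Subtype.ext (by
        show h * ((m : H) * m') * h⁻¹ = (h * m * h⁻¹) * (h * m' * h⁻¹); group) }
  obtain ⟨m, hm⟩ := MulAction.exists_smul_eq M (α • P) P
  -- `φ(m) ∈ Q = φ(S)`
  have hφm : (φ (m : H))⁻¹ ∈ S.map φ := by rw [hmap]; exact Q.inv_mem m.2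
  obtain ⟨s, hs, hse⟩ := hφm
  refine ⟨s * (m * h), ?_, ?_⟩
  · rw [map_mul, map_mul, hse, inv_mul_cancel_left]
  -- `m h` normalises `S`
  have key : ∀ t : H, t ∈ S ↔ (m * h) * t * ((m : H) * h)⁻¹ ∈ S := by
    have hcoe : ((m • (α • P) : Sylow ℓ M) : Subgroup M) = (P : Subgroup M) := by rw [hm]
    have hsub : ∀ u : M, u ∈ (P : Subgroup M) ↔ m * α u * m⁻¹ ∈ (P : Subgroup M) := by
      intro u
      have h1 : m * α u * m⁻¹ ∈ ((m • (α • P) : Sylow ℓ M) : Subgroup M) ↔ u ∈ (P : Subgroup M) := by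
        rw [Sylow.coe_subgroup_smul, Sylow.pointwise_smul_def]
        rw [Subgroup.mem_smul_pointwise_iff_exists]
        constructor
        · rintro ⟨v, hv, hve⟩
          rw [Subgroup.mem_smul_pointwise_iff_exists] at hv
          obtain ⟨w, hw, rfl⟩ := hv
          have h3 : m * (α • w) * m⁻¹ = m * α u * m⁻¹ := hve
          have h4 : α • w = α u := by simpa using h3
          have h5 : w = u := α.injective h4
          exact h5 ▸ hw
        · intro hu
          exact ⟨α • u, Subgroup.smul_mem_pointwise_smul _ _ _ hu, rfl⟩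
      rw [← h1, hcoe]
    intro t
    constructor
    · rintro ⟨u, hu, rfl⟩
      refine ⟨m * α u * m⁻¹, (hsub u).1 hu, ?_⟩
      show (m : H) * (h * u * h⁻¹) * (m : H)⁻¹ = _
      simp only [Subgroup.coe_subtype]
      group
    · rintro ⟨v, hv, hve⟩
      have hve' : (v : H) = m * h * t * ((m : H) * h)⁻¹ := hve
      have htM : t ∈ M := by
        rw [hhM t]
        have h6 : h * t * h⁻¹ = (m : H)⁻¹ * v * m := by rw [hve']; group
        rw [h6]
        exact M.mul_mem (M.mul_mem (M.inv_mem m.2) v.2) m.2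
      refine ⟨⟨t, htM⟩, (hsub _).2 ?_, rfl⟩
      have h7 : m * α ⟨t, htM⟩ * m⁻¹ = v := by
        apply Subtype.ext
        show (m : H) * (h * t * h⁻¹) * (m : H)⁻¹ = v
        rw [hve']; group
      rw [h7]; exact hv
  intro t
  rw [key t]
  constructor
  · intro ht
    have : s * (m * h) * t * (s * (m * h))⁻¹ = s * (m * h * t * (m * h)⁻¹) * s⁻¹ := by group
    rw [this]
    exact S.mul_mem (S.mul_mem hs ht) (S.inv_mem hs)
  · intro ht
    have : m * h * t * (m * h)⁻¹ = s⁻¹ * (s * (m * h) * t * (s * (m * h))⁻¹) * s := by group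
    rw [this]
    exact S.mul_mem (S.mul_mem (S.inv_mem hs) ht) hs

end Frattini

section Conj

variable {X : Type*} [Group X]

/-- a `ℓ`-subgroup is conjugate into every subgroup of index prime to `ℓ`. -/
theorem exists_conj_le (T : Subgroup X) [Finite X] {ℓ : ℕ} [hl : Fact ℓ.Prime] (hT : ¬ ℓ ∣ T.index)
    (Q : Subgroup X) (hQ : IsPGroup ℓ Q) : ∃ g : X, ∀ q ∈ Q, g * q * g⁻¹ ∈ T := by
  classical
  have hfin : Finite (X ⧸ T) := inferInstance
  have hne : (MulAction.fixedPoints Q (X ⧸ T)).Nonempty := by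
    apply hQ.nonempty_fixed_point_of_prime_not_dvd_card
    exact hT
  obtain ⟨c, hc⟩ := hne
  obtain ⟨g, rfl⟩ := QuotientGroup.mk_surjective c
  refine ⟨g⁻¹, fun q hq => ?_⟩
  have h1 := hc ⟨q, hq⟩
  have h2 : ((q * g : X) : X ⧸ T) = (g : X ⧸ T) := h1
  rw [QuotientGroup.eq] at h2
  have h3 : g⁻¹ * q * g⁻¹⁻¹ = ((q * g)⁻¹ * g)⁻¹ := by group
  rw [h3]
  exact T.inv_mem h2

/-- `T` is abelian, normal in `N`, and fusion in `T` is controlled by `N`. -/
structure TorusData (T N : Subgroup X) : Prop where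
  comm : ∀ a ∈ T, ∀ b ∈ T, a * b = b * a
  le : T ≤ N
  normal : ∀ n ∈ N, ∀ t ∈ T, n * t * n⁻¹ ∈ T
  fus : ∀ (g : X) (S : Subgroup X), S ≤ T → (∀ s ∈ S, g * s * g⁻¹ ∈ T) →
    ∃ n ∈ N, ∀ s ∈ S, n * s * n⁻¹ = g * s * g⁻¹

end Conj

section Expo

variable {A : Type*} [Group A]

/-- the discrete logarithm to the base `x` -/
noncomputable def dlog (x : A) (ℓ : ℕ) (a : A) : ZMod ℓ :=
  open Classical in if h : a ∈ Subgroup.zpowers x then ((Classical.choose h : ℤ) : ZMod ℓ) else 0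

theorem dlog_zpow {x : A} {ℓ : ℕ} (hx : orderOf x = ℓ) (i : ℤ) : dlog x ℓ (x ^ i) = (i : ZMod ℓ) := by
  have h : x ^ i ∈ Subgroup.zpowers x := ⟨i, rfl⟩
  unfold dlog
  rw [dif_pos h]
  have h2 : x ^ (Classical.choose h : ℤ) = x ^ i := Classical.choose_spec h
  rw [zpow_eq_zpow_iff_modEq, hx] at h2
  exact (ZMod.intCast_eq_intCast_iff _ _ _).2 h2

theorem dlog_mul {x : A} {ℓ : ℕ} (hx : orderOf x = ℓ) {a b : A} (ha : a ∈ Subgroup.zpowers x)
    (hb : b ∈ Subgroup.zpowers x) : dlog x ℓ (a * b) = dlog x ℓ a + dlog x ℓ b := by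
  obtain ⟨i, rfl⟩ := ha
  obtain ⟨j, rfl⟩ := hb
  show dlog x ℓ (x ^ i * x ^ j) = dlog x ℓ (x ^ i) + dlog x ℓ (x ^ j)
  rw [← zpow_add, dlog_zpow hx, dlog_zpow hx, dlog_zpow hx, Int.cast_add]

theorem dlog_conj {x y : A} {ℓ k : ℕ} (hx : orderOf x = ℓ) (hy : y * x * y⁻¹ = x ^ k) {a : A}
    (ha : a ∈ Subgroup.zpowers x) : dlog x ℓ (y * a * y⁻¹) = k * dlog x ℓ a := by
  obtain ⟨i, rfl⟩ := ha
  show dlog x ℓ (y * x ^ i * y⁻¹) = k * dlog x ℓ (x ^ i)
  rw [← conj_zpow, hy, ← zpow_natCast, ← zpow_mul, dlog_zpow hx, dlog_zpow hx]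
  push_cast
  rfl

/-- `y` normalises `⟨x⟩` -/
theorem normalizes_zpowers {x y : A} {ℓ k : ℕ} [hl : Fact ℓ.Prime] (hx : orderOf x = ℓ)
    (hy : y * x * y⁻¹ = x ^ k) (q : A) : q ∈ Subgroup.zpowers x ↔ y * q * y⁻¹ ∈ Subgroup.zpowers x := by
  have h1 : ∀ q ∈ Subgroup.zpowers x, y * q * y⁻¹ ∈ Subgroup.zpowers x := by
    rintro _ ⟨i, rfl⟩
    show y * x ^ i * y⁻¹ ∈ _
    rw [← conj_zpow, hy]
    exact Subgroup.zpow_mem _ (Subgroup.pow_mem _ (Subgroup.mem_zpowers x) k) i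
  have hfin : Finite (Subgroup.zpowers x) := by
    apply Nat.finite_of_card_ne_zero
    rw [Nat.card_zpowers, hx]
    exact hl.out.ne_zero
  refine ⟨h1 q, fun hq => ?_⟩
  let f : Subgroup.zpowers x → Subgroup.zpowers x := fun q => ⟨y * q * y⁻¹, h1 q q.2⟩
  have hf : Function.Injective f := by
    intro a b hab
    have : y * (a : A) * y⁻¹ = y * b * y⁻¹ := congrArg Subtype.val hab
    exact Subtype.ext (by simpa using this)
  obtain ⟨z, hz⟩ := (Finite.injective_iff_surjective.1 hf) ⟨_, hq⟩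
  have : y * (z : A) * y⁻¹ = y * q * y⁻¹ := congrArg Subtype.val hz
  have h3 : (z : A) = q := by simpa using this
  exact h3 ▸ z.2

end Expo

end Cfsg.Agent.H190
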