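import Cfsg.Agent.H190.PermCert

/-!
# The Weyl group of type `G₂`: `w ^ 6 = 1`
-/

set_option autoImplicit false

namespace Cfsg.Agent.H190.WG2

open Cfsg.Agent.H190.PC

def gensG2 : List ℕ :=
  [0xb060809040a010702030500,
   0xa0b09070805060304020001]

def XG20 : List ℕ :=
  [0xb0a09080706050403020100,
   0xa0b09070805060304020001,
   0x60b080409010a0207030005,
   0x50a070309000b0208040106,
   0x106040208000b030907050a,
   0x5030207010a040908060b]

def XG21 : List ℕ :=
  [0xb0a09080706050403020100,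
   0xb060809040a010702030500]

def chainG2 : List (List ℕ × List ℕ) :=
  [([0xb060809040a010702030500], XG20),
   ([], XG21)]

set_option maxRecDepth 100000 in
theorem chain_ok : chain 12 gensG2 chainG2 = true := by decide +kernel

set_option maxRecDepth 100000 in
theorem all_ok : allProd 12 (fun c => powOne 12 c 6) (chainG2.map Prod.snd) (one 12) = true := by decide +kernel

theorem codes_gens : ∀ c ∈ gensG2, ∃ w : Equiv.Perm (Fin 12), Codes c w := by
  have h : ∀ c ∈ gensG2, (∀ x : Fin 12, get c x < 12) ∧ ∀ x : Fin 12, get c (get c x) = x := by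
    decide +kernel
  intro c hc
  obtain ⟨h1, h2⟩ := h c hc
  let f : Fin 12 → Fin 12 := fun x => ⟨get c x, h1 x⟩
  have hf : ∀ x, f (f x) = x := fun x => Fin.ext (h2 x)
  exact ⟨⟨f, f, hf, hf⟩, fun x => rfl⟩

theorem sub_gens : ∀ p ∈ chainG2, ∀ c ∈ p.1, c ∈ gensG2 := by decide +kernel

theorem order (w : Equiv.Perm (Fin 12)) (hw : w ∈ Subgroup.closure (PS 12 gensG2)) : w ^ 6 = 1 := by
  have h1 := chain_spec (by norm_num) chainG2 gensG2 (fun p hp c hc => codes_gens c (sub_gens p hp c hc)) chain_ok w hw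
  obtain ⟨c, hc, hP⟩ := allProd_spec _ _ _ 1 (codes_one (by norm_num)) all_ok w h1
  rw [one_mul] at hc
  exact powOne_spec hc hP

end Cfsg.Agent.H190.WG2
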